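import Groth.Prelude.Def_SGA6
import Mathlib

/-!
# The resolution theorem for Grothendieck groups
-/

set_option autoImplicit false

open CategoryTheory CategoryTheory.Limits

universe v u

namespace Groth.Agent.K0ResLib

variable {C : Type u} [Category.{v} C] [Abelian C]

theorem clSub_of {P : ObjectProperty C} {X : C} (h : P X) :
    KZero.clSub P X = QuotientAddGroup.mk (FreeAbelianGroup.of (⟨X, h⟩ : Subtype P)) := dif_pos h

theorem clSub_add {P : ObjectProperty C} {S : ShortComplex C} (hS : S.ShortExact) (h₁ : P S.X₁) (h₂ : P S.X₂)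
    (h₃ : P S.X₃) : KZero.clSub P S.X₂ = KZero.clSub P S.X₁ + KZero.clSub P S.X₃ := by
  rw [clSub_of h₁, clSub_of h₂, clSub_of h₃, ← QuotientAddGroup.mk_add, QuotientAddGroup.eq]
  refine neg_mem_iff.1 (AddSubgroup.subset_closure ⟨S, h₁, h₂, h₃, hS, ?_⟩)
  abel

/-- The short exact sequence of an epimorphism. -/
noncomputable abbrev kerSC {X Y : C} (p : X ⟶ Y) : ShortComplex C :=
  ShortComplex.mk (kernel.ι p) p (kernel.condition p)

theorem kerSC_shortExact {X Y : C} (p : X ⟶ Y) [Epi p] : (kerSC p).ShortExact :=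
  { exact := ShortComplex.exact_of_f_is_kernel _ (kernelIsKernel p), mono_f := inferInstance, epi_g := ‹_› }

/-- The kernels of an epimorphism onto the middle term of a short exact sequence. -/
theorem exists_kernel_shortExact {S : ShortComplex C} (hS : S.ShortExact) {L : C} (q : L ⟶ S.X₂) [Epi q] :
    ∃ (a : kernel q ⟶ kernel (q ≫ S.g)) (b : kernel (q ≫ S.g) ⟶ S.X₁) (w : a ≫ b = 0),
      (ShortComplex.mk a b w).ShortExact := by
  haveI := hS.mono_f
  let a : kernel q ⟶ kernel (q ≫ S.g) := kernel.lift _ (kernel.ι q) (by simp)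
  let b : kernel (q ≫ S.g) ⟶ S.X₁ := hS.exact.lift (kernel.ι (q ≫ S.g) ≫ q) (by simp)
  have ha : a ≫ kernel.ι (q ≫ S.g) = kernel.ι q := kernel.lift_ι _ _ _
  have hb : b ≫ S.f = kernel.ι (q ≫ S.g) ≫ q := hS.exact.lift_f _ _
  have w : a ≫ b = 0 := by
    rw [← cancel_mono S.f, Category.assoc, hb, reassoc_of% ha, kernel.condition, zero_comp]
  refine ⟨a, b, w, { exact := ?_, mono_f := mono_of_mono_fac ha, epi_g := ?_ }⟩
  · rw [ShortComplex.exact_iff_exact_up_to_refinements]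
    intro T x hx
    refine ⟨T, 𝟙 T, inferInstance, kernel.lift q (x ≫ kernel.ι _) ?_, ?_⟩
    · rw [Category.assoc, ← hb, reassoc_of% hx, zero_comp]
    · show 𝟙 T ≫ x = kernel.lift q (x ≫ kernel.ι _) _ ≫ a
      rw [← cancel_mono (kernel.ι (q ≫ S.g)), Category.id_comp, Category.assoc, ha, kernel.lift_ι]
  · rw [epi_iff_surjective_up_to_refinements]
    intro T y
    obtain ⟨T', π, hπ, x, hx⟩ := surjective_up_to_refinements_of_epi q (y ≫ S.f)
    refine ⟨T', π, hπ, kernel.lift _ x ?_, ?_⟩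
    · rw [← reassoc_of% hx, S.zero, comp_zero, comp_zero]
    · rw [← cancel_mono S.f, Category.assoc, Category.assoc, hb, kernel.lift_ι_assoc, hx]

section

variable (P₀ P₁ : ObjectProperty C)

/-- Every `P₀`-cover iterated `n` times ends in `P₀`. -/
def D : ℕ → C → Prop
  | 0, A => P₀ A
  | n + 1, A => P₁ A ∧ ∀ (L : C) (p : L ⟶ A), P₀ L → Epi p → D n (kernel p)

open Classical in
/-- The Euler characteristic through `n` steps. -/
noncomputable def psi : ℕ → C → KZero.K0sub P₀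
  | 0, A => KZero.clSub P₀ A
  | n + 1, A =>
    if h : ∃ (L : C) (p : L ⟶ A), P₀ L ∧ Epi p then
      KZero.clSub P₀ h.choose - psi n (kernel h.choose_spec.choose)
    else 0

/-- The hypotheses. -/
structure Hyp : Prop where
  hle : ∀ X, P₀ X → P₁ X
  hext₁ : ∀ S : ShortComplex C, S.ShortExact → P₁ S.X₁ → P₁ S.X₃ → P₁ S.X₂
  h1₀ : ∀ S : ShortComplex C, S.ShortExact → P₀ S.X₂ → P₀ S.X₃ → P₀ S.X₁
  h1₁ : ∀ S : ShortComplex C, S.ShortExact → P₁ S.X₂ → P₁ S.X₃ → P₁ S.X₁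
  cover : ∀ A : C, P₁ A → ∃ (L : C) (p : L ⟶ A), P₀ L ∧ Epi p

variable {P₀ P₁} (H : Hyp P₀ P₁)
include H

theorem Hyp.P₁_kernel {X Y : C} (p : X ⟶ Y) [Epi p] (hX : P₁ X) (hY : P₁ Y) : P₁ (kernel p) :=
  H.h1₁ _ (kerSC_shortExact p) hX hY

theorem Hyp.P₀_kernel {X Y : C} (p : X ⟶ Y) [Epi p] (hX : P₀ X) (hY : P₀ Y) : P₀ (kernel p) :=
  H.h1₀ _ (kerSC_shortExact p) hX hY

theorem D.mem₁ {n : ℕ} {A : C} (h : D P₀ P₁ n A) : P₁ A := by
  cases n with
  | zero => exact H.hle _ h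
  | succ n => exact h.1

theorem D.of_P₀ : ∀ (n : ℕ) {A : C}, P₀ A → D P₀ P₁ n A
  | 0, _, h => h
  | n + 1, _, h => ⟨H.hle _ h, fun _ p hL _ => D.of_P₀ n (H.P₀_kernel p hL h)⟩

theorem D.succ : ∀ (n : ℕ) {A : C}, D P₀ P₁ n A → D P₀ P₁ (n + 1) A
  | 0, _, h => D.of_P₀ H 1 h
  | n + 1, _, h => ⟨h.1, fun L p hL hp => D.succ n (h.2 L p hL hp)⟩

theorem D.mono {n m : ℕ} (hnm : n ≤ m) {A : C} (h : D P₀ P₁ n A) : D P₀ P₁ m A := by
  induction hnm with
  | refl => exact h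
  | step _ ih => exact D.succ H _ ih

theorem D.kernel_of_cover {n : ℕ} {M L : C} (hM : D P₀ P₁ n M) (q : L ⟶ M) [Epi q] (hL : P₀ L) :
    D P₀ P₁ n (kernel q) := by
  cases n with
  | zero => exact H.P₀_kernel q hL hM
  | succ n => exact D.succ H n (hM.2 L q hL ‹_›)

omit H in
/-- The inductive package. -/
structure Good (n : ℕ) : Prop where
  add : ∀ S : ShortComplex C, S.ShortExact → D P₀ P₁ n S.X₁ → D P₀ P₁ n S.X₂ → D P₀ P₁ n S.X₃ →
    psi P₀ n S.X₂ = psi P₀ n S.X₁ + psi P₀ n S.X₃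
  base : ∀ X, P₀ X → psi P₀ n X = KZero.clSub P₀ X

theorem cover_eq {n : ℕ} (hG : Good (P₀ := P₀) (P₁ := P₁) n) {A : C} (hA : D P₀ P₁ (n + 1) A) {L : C}
    (p : L ⟶ A) [Epi p] (hL : P₀ L) : psi P₀ (n + 1) A = KZero.clSub P₀ L - psi P₀ n (kernel p) := by
  have hex : ∃ (L : C) (p : L ⟶ A), P₀ L ∧ Epi p := ⟨L, p, hL, ‹_›⟩
  rw [psi, dif_pos hex]
  suffices any : ∀ {L₀ : C} (p₀ : L₀ ⟶ A), Epi p₀ → P₀ L₀ →
      KZero.clSub P₀ L₀ - psi P₀ n (kernel p₀) = KZero.clSub P₀ L - psi P₀ n (kernel p) from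
    any _ hex.choose_spec.choose_spec.2 hex.choose_spec.choose_spec.1
  intro L₀ p₀ hep₀ hL₀
  -- dominate both covers
  have hM : P₁ (pullback p₀ p) := by
    -- the fibre product is an extension of `L` by the kernel of `p₀`
    obtain ⟨c, hc1, hc⟩ : ∃ c : kernel p₀ ⟶ pullback p₀ p,
        c ≫ pullback.fst p₀ p = kernel.ι p₀ ∧ c ≫ pullback.snd p₀ p = 0 :=
      ⟨pullback.lift (kernel.ι p₀) 0 (by simp), pullback.lift_fst _ _ _, pullback.lift_snd _ _ _⟩
    have hk : IsLimit (KernelFork.ofι c hc) := KernelFork.IsLimit.ofι c hc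
      (fun g hg => kernel.lift p₀ (g ≫ pullback.fst p₀ p) (by
        rw [Category.assoc, pullback.condition, reassoc_of% hg, zero_comp]))
      (fun g hg => pullback.hom_ext (by simp [hc1]) (by simp [hc, hg]))
      (fun g hg m hm => by rw [← cancel_mono (kernel.ι p₀)]; simp [← hm, hc1])
    refine H.hext₁ (ShortComplex.mk c (pullback.snd p₀ p) hc) ?_
      (H.P₁_kernel p₀ (H.hle _ hL₀) hA.1) (H.hle _ hL)
    exact { exact := ShortComplex.exact_of_f_is_kernel _ hk, mono_f := mono_of_isLimit_fork hk,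
            epi_g := show Epi (pullback.snd p₀ p) from inferInstance }
  obtain ⟨L', r, hL', hr⟩ := H.cover _ hM
  have key : ∀ {L₁ : C} (p₁ : L₁ ⟶ A) (_ : Epi p₁) (q : L' ⟶ L₁) (_ : Epi q), P₀ L₁ →
      KZero.clSub P₀ L' - psi P₀ n (kernel (q ≫ p₁)) = KZero.clSub P₀ L₁ - psi P₀ n (kernel p₁) := by
    intro L₁ p₁ _ q _ hL₁
    obtain ⟨a, b, w, hse⟩ := exists_kernel_shortExact (kerSC_shortExact p₁) q
    have hN : P₀ (kernel q) := H.P₀_kernel q hL' hL₁
    have h := hG.add _ hse (D.of_P₀ H n hN) (hA.2 L' (q ≫ p₁) hL' inferInstance) (hA.2 L₁ p₁ hL₁ ‹_›)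
    change psi P₀ n (kernel (q ≫ p₁)) = psi P₀ n (kernel q) + psi P₀ n (kernel p₁) at h
    rw [h, hG.base _ hN, clSub_add (kerSC_shortExact q) hN hL' hL₁]
    abel
  rw [← key p₀ hep₀ (r ≫ pullback.fst p₀ p) inferInstance hL₀, ← key p ‹_› (r ≫ pullback.snd p₀ p) inferInstance hL]
  simp only [Category.assoc, pullback.condition]

theorem consistent {n : ℕ} (hG : Good (P₀ := P₀) (P₁ := P₁) n) {A : C} (hA : D P₀ P₁ n A) :
    psi P₀ (n + 1) A = psi P₀ n A := by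
  obtain ⟨L, p, hL, hp⟩ := H.cover A (D.mem₁ H hA)
  have h : psi P₀ n L = psi P₀ n (kernel p) + psi P₀ n A := hG.add _ (kerSC_shortExact p) (D.kernel_of_cover H hA p hL) (D.of_P₀ H n hL) hA
  rw [cover_eq H hG (D.succ H n hA) p hL, ← hG.base L hL, h]
  abel

theorem good : ∀ n, Good (P₀ := P₀) (P₁ := P₁) n
  | 0 => ⟨fun S hS h₁ h₂ h₃ => clSub_add hS h₁ h₂ h₃, fun X _ => rfl⟩
  | n + 1 => by
    have hG := good n
    refine ⟨fun S hS h₁ h₂ h₃ => ?_, fun X hX => by rw [consistent H hG (D.of_P₀ H n hX), hG.base X hX]⟩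
    haveI := hS.epi_g
    obtain ⟨L, p, hL, hp⟩ := H.cover _ h₂.1
    obtain ⟨a, b, w, hse⟩ := exists_kernel_shortExact hS p
    haveI : Epi b := hse.epi_g
    have hM : D P₀ P₁ n (kernel (p ≫ S.g)) := h₃.2 L _ hL inferInstance
    obtain ⟨L', q, hL', hq⟩ := H.cover _ (D.mem₁ H hM)
    obtain ⟨a', b', w', hse'⟩ := exists_kernel_shortExact hse q
    have hK : D P₀ P₁ n (kernel p) := h₂.2 L p hL hp
    have hR : D P₀ P₁ n (kernel q) := D.kernel_of_cover H hM q hL'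
    have hN : D P₀ P₁ n (kernel (q ≫ b)) := h₁.2 L' _ hL' inferInstance
    rw [cover_eq H hG h₂ p hL, cover_eq H hG h₁ (q ≫ b) hL', cover_eq H hG h₃ (p ≫ S.g) hL,
      ← consistent H hG hM, cover_eq H hG (D.succ H n hM) q hL']
    have h := hG.add _ hse' hR hN hK
    change psi P₀ n (kernel (q ≫ b)) = psi P₀ n (kernel q) + psi P₀ n (kernel p) at h
    rw [h]
    abel

theorem psi_eq {n m : ℕ} (hnm : n ≤ m) {A : C} (h : D P₀ P₁ n A) : psi P₀ m A = psi P₀ n A := by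
  induction hnm with
  | refl => rfl
  | @step m hm ih => rw [consistent H (good H m) (D.mono H hm h), ih]

theorem psi_eq' {n m : ℕ} {A : C} (h : D P₀ P₁ n A) (h' : D P₀ P₁ m A) : psi P₀ n A = psi P₀ m A := by
  rcases le_total n m with hnm | hnm
  · exact (psi_eq H hnm h).symm
  · exact psi_eq H hnm h'

theorem mapSub_psi (hle : ∀ X, P₀ X → P₁ X) : ∀ (n : ℕ) {A : C} (h : D P₀ P₁ n A),
    SGA6.mapSub (𝟭 C) P₀ P₁ hle (psi P₀ n A) = KZero.clSub P₁ A
  | 0, A, h => by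
    have h' : P₀ A := h
    rw [psi, clSub_of h', clSub_of (H.hle _ h')]
    rfl
  | n + 1, A, h => by
    obtain ⟨L, p, hL, hp⟩ := H.cover _ h.1
    rw [cover_eq H (good H n) h p hL, map_sub, mapSub_psi hle n (h.2 L p hL hp)]
    have h2 : SGA6.mapSub (𝟭 C) P₀ P₁ hle (KZero.clSub P₀ L) = KZero.clSub P₁ L := by
      rw [clSub_of hL, clSub_of (H.hle _ hL)]
      rfl
    rw [h2, sub_eq_iff_eq_add', clSub_add (kerSC_shortExact p) (H.P₁_kernel p (H.hle _ hL) h.1) (H.hle _ hL) h.1]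

theorem bijective (hle : ∀ X, P₀ X → P₁ X) (hfin : ∀ A, P₁ A → ∃ n, D P₀ P₁ n A) :
    Function.Bijective (SGA6.mapSub (𝟭 C) P₀ P₁ hle) := by
  choose N hN using hfin
  let g : FreeAbelianGroup (Subtype P₁) →+ KZero.K0sub P₀ :=
    FreeAbelianGroup.lift fun X => psi P₀ (N X.1 X.2) X.1
  have hg : KZero.relSub P₁ ≤ g.ker := by
    rw [KZero.relSub, AddSubgroup.closure_le]
    rintro x ⟨S, h₁, h₂, h₃, hS, rfl⟩
    let M := N S.X₁ h₁ + N S.X₂ h₂ + N S.X₃ h₃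
    show g _ = 0
    simp only [g, map_sub, FreeAbelianGroup.lift_apply_of]
    have d₁ := D.mono H (m := M) (by omega) (hN _ h₁)
    have d₂ := D.mono H (m := M) (by omega) (hN _ h₂)
    have d₃ := D.mono H (m := M) (by omega) (hN _ h₃)
    rw [psi_eq' H (hN _ h₁) d₁, psi_eq' H (hN _ h₂) d₂, psi_eq' H (hN _ h₃) d₃, (good H M).add S hS d₁ d₂ d₃]
    abel
  let G : KZero.K0sub P₁ →+ KZero.K0sub P₀ := QuotientAddGroup.lift _ g hg
  have hG : ∀ X (h : P₁ X), G (KZero.clSub P₁ X) = psi P₀ (N X h) X := fun X h => by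
    rw [clSub_of h]
    exact FreeAbelianGroup.lift_apply_of _ _
  have h1 : G.comp (SGA6.mapSub (𝟭 C) P₀ P₁ hle) = AddMonoidHom.id _ := by
    refine QuotientAddGroup.addMonoidHom_ext _ (FreeAbelianGroup.lift_ext _ _ fun X => ?_)
    show G (SGA6.mapSub (𝟭 C) P₀ P₁ hle (QuotientAddGroup.mk (FreeAbelianGroup.of X))) = _
    have : SGA6.mapSub (𝟭 C) P₀ P₁ hle (QuotientAddGroup.mk (FreeAbelianGroup.of X)) = KZero.clSub P₁ X.1 := by
      rw [clSub_of (H.hle _ X.2)]; rfl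
    rw [this, hG _ (H.hle _ X.2), psi_eq' H (hN _ _) (show D P₀ P₁ 0 X.1 from X.2)]
    show KZero.clSub P₀ X.1 = _
    rw [clSub_of X.2]
    rfl
  have h2 : (SGA6.mapSub (𝟭 C) P₀ P₁ hle).comp G = AddMonoidHom.id _ := by
    refine QuotientAddGroup.addMonoidHom_ext _ (FreeAbelianGroup.lift_ext _ _ fun X => ?_)
    show SGA6.mapSub (𝟭 C) P₀ P₁ hle (G (QuotientAddGroup.mk (FreeAbelianGroup.of X))) = _
    have hX : (QuotientAddGroup.mk (FreeAbelianGroup.of X) : KZero.K0sub P₁) = KZero.clSub P₁ X.1 := (clSub_of X.2).symm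
    rw [hX, hG _ X.2, mapSub_psi H hle _ (hN _ _)]
    exact hX.symm
  exact Function.bijective_iff_has_inverse.2 ⟨G, DFunLike.congr_fun h1, DFunLike.congr_fun h2⟩

end

end Groth.Agent.K0ResLib
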