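import Groth.Agent.K0ResLib.Basic
import Mathlib

/-!
# Finite resolution dimension from the cycles of resolutions
-/

set_option autoImplicit false

open CategoryTheory CategoryTheory.Limits

universe v u

namespace Groth.Agent.K0ResLib

variable {C : Type u} [Category.{v} C] [Abelian C]

theorem exists_bad_seq {P₀ P₁ : ObjectProperty C} (H : Hyp P₀ P₁) {A : C} (hA : P₁ A) (N : ℕ)
    (hbad : ¬ D P₀ P₁ N A) :
    ∃ (Z L : ℕ → C) (p : ∀ i, L i ⟶ Z i) (_ : Z 0 = A) (_ : ∀ i, Z (i + 1) = kernel (p i)),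
      (∀ i, P₀ (L i)) ∧ (∀ i, Epi (p i)) ∧ ¬ P₀ (Z N) := by
  classical
  have step : ∀ (i : ℕ) (Z : C), P₁ Z → ∃ (L : C) (p : L ⟶ Z), P₀ L ∧ Epi p ∧ P₁ (kernel p) ∧
      (i < N → ¬ D P₀ P₁ (N - i) Z → ¬ D P₀ P₁ (N - (i + 1)) (kernel p)) := by
    intro i Z hZ
    by_cases h : i < N ∧ ¬ D P₀ P₁ (N - i) Z
    · obtain ⟨hi, hZD⟩ := h
      obtain ⟨m, hm, hm'⟩ : ∃ m, N - i = m + 1 ∧ N - (i + 1) = m := ⟨N - (i + 1), by omega, rfl⟩
      rw [hm] at hZD
      simp only [D, hZ, true_and, not_forall] at hZD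
      obtain ⟨L, p, hL, hp, hn⟩ := hZD
      exact ⟨L, p, hL, hp, H.P₁_kernel p (H.hle _ hL) hZ, fun _ _ => hm' ▸ hn⟩
    · obtain ⟨L, p, hL, hp⟩ := H.cover Z hZ
      exact ⟨L, p, hL, hp, H.P₁_kernel p (H.hle _ hL) hZ, fun hi hn => absurd ⟨hi, hn⟩ h⟩
  choose Lf pf hLf hpf hkf hbf using step
  let Zs : ℕ → {Z : C // P₁ Z} := fun n => Nat.rec ⟨A, hA⟩ (fun i Z => ⟨kernel (pf i Z.1 Z.2), hkf i Z.1 Z.2⟩) n
  refine ⟨fun i => (Zs i).1, fun i => Lf i (Zs i).1 (Zs i).2, fun i => pf i _ _, rfl, fun i => rfl,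
    fun i => hLf _ _ _, fun i => hpf _ _ _, ?_⟩
  have : ∀ i, i ≤ N → ¬ D P₀ P₁ (N - i) (Zs i).1 := by
    intro i
    induction i with
    | zero => exact fun _ => hbad
    | succ i ih => exact fun hi => hbf i _ _ (by omega) (ih (by omega))
  have h := this N le_rfl
  rwa [Nat.sub_self] at h

theorem exists_D {P₀ P₁ : ObjectProperty C} [P₀.IsClosedUnderIsomorphisms] (H : Hyp P₀ P₁) {A : C} (hA : P₁ A)
    (d : ℕ) (hd : ∀ L : ChainComplex C ℕ, (∀ i, P₀ (L.X i)) → (∀ i, 1 ≤ i → L.ExactAt i) →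
      Nonempty (L.homology 0 ≅ A) → P₀ (L.cycles (d + 1))) : D P₀ P₁ (d + 2) A := by
  by_contra hbad
  obtain ⟨Z, L, p, hZ0, hZ, hL, hp, hN⟩ := exists_bad_seq H hA (d + 2) hbad
  haveI := hp
  let ι : ∀ i, Z (i + 1) ⟶ L i := fun i => eqToHom (hZ i) ≫ kernel.ι (p i)
  have hι : ∀ i, ι i ≫ p i = 0 := fun i => by simp [ι]
  have hlim : ∀ i, IsLimit (KernelFork.ofι (ι i) (hι i)) := fun i =>
    IsLimit.ofIsoLimit (kernelIsKernel (p i)) (Fork.ext (eqToIso (hZ i).symm) (by simp [ι]))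
  have hfac : ∀ (i : ℕ) {T : C} (g : T ⟶ L i) (hg : g ≫ p i = 0),
      (hlim i).lift (KernelFork.ofι g hg) ≫ ι i = g := fun i T g hg => (hlim i).fac _ WalkingParallelPair.zero
  haveI : ∀ i, Mono (ι i) := fun i => mono_comp _ _
  let K : ChainComplex C ℕ := ChainComplex.of L (fun i => p (i + 1) ≫ ι i)
    (fun i => by rw [Category.assoc, reassoc_of% hι, zero_comp, comp_zero])
  have hd' : ∀ i, K.d (i + 1) i = p (i + 1) ≫ ι i := fun i => ChainComplex.of_d (fun i => L i) (fun i => p (i + 1) ≫ ι i) i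
  have hex : ∀ i, 1 ≤ i → K.ExactAt i := by
    intro i hi
    obtain ⟨j, rfl⟩ : ∃ j, i = j + 1 := ⟨i - 1, by omega⟩
    rw [HomologicalComplex.exactAt_iff' K (j + 2) (j + 1) j (by simp) (by simp),
      ShortComplex.exact_iff_exact_up_to_refinements]
    intro T x hx
    change T ⟶ L (j + 1) at x
    change x ≫ K.d (j + 1) j = 0 at hx
    rw [hd', ← Category.assoc] at hx
    have hx' : x ≫ p (j + 1) = 0 := by rw [← cancel_mono (ι j), hx, zero_comp]
    obtain ⟨T', π, hπ, y, hy⟩ := surjective_up_to_refinements_of_epi (p (j + 2))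
      ((hlim (j + 1)).lift (KernelFork.ofι x hx'))
    refine ⟨T', π, hπ, y, ?_⟩
    show π ≫ x = y ≫ K.d (j + 2) (j + 1)
    rw [hd', ← reassoc_of% hy]
    exact congrArg (π ≫ ·) (hfac (j + 1) x hx').symm
  have hhom : Nonempty (K.homology 0 ≅ A) := by
    have h10 : K.d 1 0 = p 1 ≫ ι 0 := hd' 0
    have hw : K.d 1 0 ≫ p 0 = 0 := by
      rw [h10, Category.assoc, hι, comp_zero]
    have hses : (ShortComplex.mk (ι 0) (p 0) (hι 0)).ShortExact :=
      { exact := ShortComplex.exact_of_f_is_kernel _ (hlim 0), mono_f := inferInstance, epi_g := inferInstance }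
    have cfac : ∀ {T : C} (g : L 0 ⟶ T) (hg : ι 0 ≫ g = 0),
        p 0 ≫ hses.gIsCokernel.desc (CokernelCofork.ofπ g hg) = g := fun g hg =>
      hses.gIsCokernel.fac (CokernelCofork.ofπ g hg) WalkingParallelPair.one
    have hc : IsColimit (CokernelCofork.ofπ (p 0) hw) :=
      CokernelCofork.IsColimit.ofπ _ _
        (fun g hg => hses.gIsCokernel.desc (CokernelCofork.ofπ g (by
          rw [h10, Category.assoc] at hg
          rw [← cancel_epi (p 1), hg, comp_zero])))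
        (fun g hg => cfac g _)
        (fun g hg m hm => (cancel_epi (p 0)).1 (hm.trans (cfac g _).symm))
    exact ⟨K.isoHomologyι₀ ≪≫
      (K.opcyclesIsCokernel 1 0 (by simp)).coconePointUniqueUpToIso hc ≪≫ eqToIso hZ0⟩
  have hcyc := hd K hL hex hhom
  refine hN (P₀.prop_of_iso ?_ hcyc)
  have h1 : K.d (d + 1) d = p (d + 1) ≫ ι d := hd' d
  have hwz : ι (d + 1) ≫ K.d (d + 1) d = 0 := by rw [h1, reassoc_of% hι, zero_comp]
  have hker : IsLimit (KernelFork.ofι (ι (d + 1)) hwz) :=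
    KernelFork.IsLimit.ofι _ _
      (fun g hg => (hlim (d + 1)).lift (KernelFork.ofι g (by
        rw [h1, ← Category.assoc] at hg
        rw [← cancel_mono (ι d), hg, zero_comp])))
      (fun g hg => Fork.IsLimit.lift_ι (hlim (d + 1)))
      (fun g hg m hm => (cancel_mono (ι (d + 1))).1 (hm.trans (hfac (d + 1) g _).symm))
  exact (K.cyclesIsKernel (d + 1) d (by simp)).conePointUniqueUpToIso hker

end Groth.Agent.K0ResLib
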